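import Groth.Agent.Ega1.AnnIdealNoeth
import Groth.Agent.Divis.ColonIdeal
import Groth.Agent.Flat2C.CompData
import Groth.Agent.Flat2C.Glob
import Groth.Agent.Flat2C.BlowExist
import Groth.Agent.S0384

/-!
# Dilatation lemma for compactifications (node (A) of S10697)

* `exists_compactification` : a separated scheme of finite type over a Noetherian `S` is the complement
  of an effective Cartier divisor in a proper `S`-scheme.
* `dil` : `U` separated of finite type over a Noetherian `S`, `Z ⊆ U` closed, `G ⊆ U ×_S U` closed with both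
  projections avoiding `Z`.  There is `U ⊆ D` open, schematically dense, `D` separated of finite type over
  `S`, such that `G` is closed in `D ×_S D` and the closure of `Z` in `D` is proper over `S`.
-/

set_option autoImplicit false
set_option linter.unusedSectionVars false
universe u

open CategoryTheory CategoryTheory.Limits AlgebraicGeometry TopologicalSpace

namespace K64.Dil

open Groth.Agent.Divis.EffCartier Groth.Agent.Divis.IdealComap BlowUp Groth.Agent.Divis

variable {X Y Z : Scheme.{u}}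

/-! ## effective Cartier ideals -/

/-- an ideal sheaf with support disjoint from the range of `f` pulls back to the unit ideal -/
lemma comap_eq_top {I : Y.IdealSheafData} {f : X ⟶ Y} (h : ∀ x, f x ∉ I.support) : I.comap f = ⊤ := by
  rw [← Scheme.IdealSheafData.support_eq_bot_iff]
  ext x
  rw [Scheme.IdealSheafData.support_comap]
  simpa using h x

lemma notMem_of_comap_eq_top {I : Y.IdealSheafData} {f : X ⟶ Y} (h : I.comap f = ⊤) (x : X) :
    f x ∉ I.support := by
  rw [← Scheme.IdealSheafData.support_eq_bot_iff, Scheme.IdealSheafData.support_comap] at h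
  intro hx
  have : x ∈ (⊥ : Closeds X) := by rw [← h]; exact hx
  exact this

/-- locally principal ideals of a scheme-theoretically dense open become effective Cartier -/
theorem isEff_comap_of_dominant (f : X ⟶ Y) [QuasiCompact f] (hf : f.ker = ⊥) (g : Y ⟶ Z)
    {L : Z.IdealSheafData} (hL : IsEffCartierIdeal L) (h : (L.comap g).comap f = ⊤) :
    IsEffCartierIdeal (L.comap g) := by
  have : IsSchemeTheoreticallyDominant f := ⟨hf⟩
  refine isEff_comap_of g fun y => ?_
  obtain ⟨U, hyU, a, -, hIa⟩ := hL (g y)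
  obtain ⟨U', V, hyU', hyV, -, hU'U, e⟩ := exists_affine_le g y ⊤ trivial U.1 hyU
  have e' : V.1 ≤ g ⁻¹ᵁ U.1 := fun _ h ↦ hU'U (e h)
  refine ⟨U, V, hyU, hyV, e', a, hIa, ?_⟩
  have hLV : (L.comap g).ideal V = Ideal.span {(g.appLE U V e').hom a} := by
    rw [ideal_comap _ g U V e', hIa, Ideal.map_span, Set.image_singleton]
  rw [mem_nonZeroDivisors_iff_right]
  intro c hc
  apply f.app_injective V.1
  rw [map_zero]
  -- check on affine opens of `f ⁻¹ V`
  refine (X.IsSheaf.section_ext) fun x hx => ?_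
  obtain ⟨W, hW, hxW, hWV⟩ := exists_isAffineOpen_mem_and_subset (U := f ⁻¹ᵁ V.1) (x := x) hx
  refine ⟨W, hWV, hxW, ?_⟩
  have e2 : W ≤ f ⁻¹ᵁ V.1 := hWV
  have h1 : ((L.comap g).comap f).ideal ⟨W, hW⟩ = ((L.comap g).ideal V).map (f.appLE V W e2).hom :=
    ideal_comap _ f V ⟨W, hW⟩ e2
  rw [h, hLV, Ideal.map_span, Set.image_singleton, Scheme.IdealSheafData.ideal_top, Pi.top_apply] at h1
  have hu : IsUnit ((f.appLE V W e2).hom ((g.appLE U V e').hom a)) := Ideal.span_singleton_eq_top.1 h1.symm
  have h2 : (f.appLE V W e2).hom c = 0 := by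
    have h3 := congrArg (f.appLE V W e2).hom hc
    rw [map_mul, map_zero] at h3
    exact (hu.mul_left_eq_zero).1 h3
  rw [map_zero]
  exact h2

/-- an effective Cartier ideal with `E ^ k ≤ E ^ (k + 1)` is the unit ideal -/
theorem eq_top_of_pow_le {E : X.IdealSheafData} (hE : IsEffCartierIdeal E) {k : ℕ}
    (h : E ^ k ≤ E ^ (k + 1)) : E = ⊤ := by
  refine ext_of_forall_mem fun x => ?_
  obtain ⟨U, hxU, f, hf, hEf⟩ := hE x
  refine ⟨U, hxU, ?_⟩
  have h1 := h U
  rw [Scheme.IdealSheafData.ideal_pow, Scheme.IdealSheafData.ideal_pow, Pi.pow_apply, Pi.pow_apply, hEf,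
    Ideal.span_singleton_pow, Ideal.span_singleton_pow, Ideal.span_singleton_le_iff_mem,
    Ideal.mem_span_singleton'] at h1
  obtain ⟨c, hc⟩ := h1
  rw [hEf, Scheme.IdealSheafData.ideal_top, Pi.top_apply, Ideal.eq_top_iff_one, Ideal.mem_span_singleton']
  refine ⟨c, ?_⟩
  have h2 : (c * f - 1) * f ^ k = 0 := by linear_combination hc
  exact sub_eq_zero.1 ((mem_nonZeroDivisors_iff_right.1 (pow_mem hf k)) _ h2)

/-- `E * Q = E` with `E` effective Cartier forces `Q = ⊤` -/
theorem eq_top_of_mul_eq {E Q : X.IdealSheafData} (hE : IsEffCartierIdeal E) (h : E * Q = E) : Q = ⊤ := by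
  refine ext_of_forall_mem fun x => ?_
  obtain ⟨U, hxU, f, hf, hEf⟩ := hE x
  refine ⟨U, hxU, ?_⟩
  have h1 : f ∈ (E * Q).ideal U := by rw [h, hEf]; exact Ideal.mem_span_singleton_self f
  rw [Scheme.IdealSheafData.ideal_mul, Pi.mul_apply, hEf, Ideal.mem_span_singleton_mul] at h1
  obtain ⟨c, hc, hcf⟩ := h1
  rw [Scheme.IdealSheafData.ideal_top, Pi.top_apply, Ideal.eq_top_iff_one]
  have h2 : (c - 1) * f = 0 := by rw [sub_mul, one_mul, sub_eq_zero, mul_comm]; exact hcf
  rw [← sub_eq_zero.1 ((mem_nonZeroDivisors_iff_right.1 hf) _ h2)]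
  exact hc

/-! ## lifting open immersions through modifications -/

lemma lift_open {X' U : Scheme.{u}} {b : X' ⟶ X} {j : U ⟶ X} [IsOpenImmersion j] {j' : U ⟶ X'}
    (h : j' ≫ b = j) (hb : IsIso (b ∣_ j.opensRange)) :
    IsOpenImmersion j' ∧ Set.range j' = b ⁻¹' (Set.range j) := by
  have hr : Set.range j' ⊆ Set.range (b ⁻¹ᵁ j.opensRange).ι := by
    rw [Scheme.Opens.range_ι]
    rintro _ ⟨x, rfl⟩
    exact ⟨x, by rw [← h]; rfl⟩
  let l : U ⟶ (b ⁻¹ᵁ j.opensRange : X'.Opens) := IsOpenImmersion.lift (b ⁻¹ᵁ j.opensRange).ι j' hr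
  have hl : l ≫ (b ⁻¹ᵁ j.opensRange).ι = j' := IsOpenImmersion.lift_fac _ _ _
  have h1 : l ≫ (b ∣_ j.opensRange) = j.isoOpensRange.hom := by
    rw [← cancel_mono j.opensRange.ι, Category.assoc, morphismRestrict_ι, reassoc_of% hl, h,
      Scheme.Hom.isoOpensRange_hom_ι]
  have h2 : IsIso l := by
    have : IsIso (l ≫ (b ∣_ j.opensRange)) := by rw [h1]; infer_instance
    exact IsIso.of_isIso_comp_right l (b ∣_ j.opensRange)
  refine ⟨by rw [← hl]; infer_instance, ?_⟩
  apply Set.Subset.antisymm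
  · rintro _ ⟨x, rfl⟩
    exact ⟨x, by rw [← h]; rfl⟩
  · intro x hx
    obtain ⟨y, hy⟩ := l.surjective ⟨x, hx⟩
    refine ⟨y, ?_⟩
    rw [← hl]
    change (b ⁻¹ᵁ j.opensRange).ι (l y) = x
    rw [hy]
    rfl

theorem exists_compactification {U S : Scheme.{u}} [IsNoetherian S] (u : U ⟶ S) [IsSeparated u]
    [LocallyOfFiniteType u] [QuasiCompact u] :
    ∃ (X : Scheme.{u}) (j : U ⟶ X) (g : X ⟶ S) (L : X.IdealSheafData), IsOpenImmersion j ∧ IsProper g ∧
      j ≫ g = u ∧ IsEffCartierIdeal L ∧ (L.support : Set X) = (Set.range j)ᶜ := by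
  obtain ⟨Xc, j, g, hj, hjq, hg, e⟩ := Groth.Agent.S0384.result u
  have hU : CompactSpace U := QuasiCompact.compactSpace_of_compactSpace u
  have hXc : CompactSpace Xc := QuasiCompact.compactSpace_of_compactSpace g
  have hXn : IsLocallyNoetherian Xc := LocallyOfFiniteType.isLocallyNoetherian g
  obtain ⟨I, hI, hIs⟩ := Groth.Agent.Flat2C.Glob.exists_ft_support_eq_compl j.opensRange
    (isCompact_range j.continuous)
  obtain ⟨B, b, hb⟩ := Groth.Agent.Flat2C.BlowExist.exists_isBlowUp I
  have hbp : IsProper b := Groth.Agent.Flat2C.BlowProper.isProper_of_isBlowUp hb hI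
  have hjI : I.comap j = ⊤ := comap_eq_top fun x hx => by
    have : j x ∈ (I.support : Set Xc) := hx
    rw [hIs] at this
    exact this ⟨x, rfl⟩
  obtain ⟨j', hj', -⟩ := hb.2 U j (by rw [hjI]; exact isEff_top)
  have hiso : IsIso (b ∣_ j.opensRange) := BlowUpFormal.isIso_morphismRestrict_compl_support hb _ (by
    rw [hIs]; exact disjoint_compl_right)
  obtain ⟨h1, h2⟩ := lift_open hj' hiso
  refine ⟨B, j', b ≫ g, I.comap b, h1, inferInstance, by rw [reassoc_of% hj', e], hb.1, ?_⟩
  rw [Scheme.IdealSheafData.support_comap, h2]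
  change b ⁻¹' (I.support : Set Xc) = _
  rw [hIs]
  rfl

/-! ## the powers on `X ×_S X` -/

lemma mem_of_mem_closure_image {A B : Type*} [TopologicalSpace A] [TopologicalSpace B] {i : A → B}
    (hi : Topology.IsOpenEmbedding i) {T : Set A} (hT : IsClosed T) {a : A} (h : i a ∈ closure (i '' T)) : a ∈ T := by
  have h1 : a ∈ i ⁻¹' closure (i '' T) := h
  rw [hi.isOpenMap.preimage_closure_eq_closure_preimage hi.continuous,
    Set.preimage_image_eq _ hi.injective, hT.closure_eq] at h1
  exact h1

section Powers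

variable {S U G : Scheme.{u}} (g : X ⟶ S) (j : U ⟶ X) [IsOpenImmersion j] {u : U ⟶ S} (hu : j ≫ g = u)
  (p q : G ⟶ U) (h : p ≫ u = q ≫ u)

/-- the morphism `G ⟶ X ×_S X` -/
noncomputable def gam : G ⟶ pullback g g :=
  pullback.lift (p ≫ j) (q ≫ j) (by rw [Category.assoc, Category.assoc, hu, h])

@[reassoc (attr := simp)] lemma gam_fst : gam g j hu p q h ≫ pullback.fst g g = p ≫ j := pullback.lift_fst _ _ _
@[reassoc (attr := simp)] lemma gam_snd : gam g j hu p q h ≫ pullback.snd g g = q ≫ j := pullback.lift_snd _ _ _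

/-- `U ×_S U ⟶ X ×_S X` -/
noncomputable def jj : pullback u u ⟶ pullback g g :=
  pullback.map _ _ _ _ j j (𝟙 S) (by simp [hu]) (by simp [hu])

instance : IsOpenImmersion (jj g j hu) := by dsimp only [jj]; infer_instance

lemma range_jj : Set.range (jj g j hu) =
    (pullback.fst g g) ⁻¹' Set.range j ∩ (pullback.snd g g) ⁻¹' Set.range j :=
  Scheme.Pullback.range_map u u g g j j (𝟙 S) (by simp [hu]) (by simp [hu])

lemma lift_jj : pullback.lift p q h ≫ jj g j hu = gam g j hu p q h := by
  apply pullback.hom_ext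
  · rw [Category.assoc, jj, pullback.map, pullback.lift_fst, pullback.lift_fst_assoc, gam_fst]
  · rw [Category.assoc, jj, pullback.map, pullback.lift_snd, pullback.lift_snd_assoc, gam_snd]

/-- a point of the closure of `G` in `X ×_S X` which lies in `U ×_S U` lies in `G` -/
lemma mem_range_gam (hcl : IsClosed (Set.range (pullback.lift p q h : G ⟶ pullback u u)))
    {x : (pullback g g : Scheme.{u})} (hx : x ∈ closure (Set.range (gam g j hu p q h)))
    (h1 : pullback.fst g g x ∈ Set.range j) (h2 : pullback.snd g g x ∈ Set.range j) :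
    x ∈ Set.range (gam g j hu p q h) := by
  have h3 : x ∈ Set.range (jj g j hu) := by rw [range_jj]; exact ⟨h1, h2⟩
  obtain ⟨a, rfl⟩ := h3
  have h4 : Set.range (gam g j hu p q h) =
      (jj g j hu) '' Set.range (pullback.lift p q h : G ⟶ pullback u u) := by
    rw [← Set.range_comp, ← lift_jj g j hu p q h]
    rfl
  rw [h4] at hx ⊢
  exact ⟨a, mem_of_mem_closure_image (jj g j hu).isOpenEmbedding hcl hx, rfl⟩

variable [IsNoetherian S] [IsProper g] {L : X.IdealSheafData} (hL : (L.support : Set X) = (Set.range j)ᶜ)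
  {V : Scheme.{u}} (z : V ⟶ U) [IsClosedImmersion z]
  (hcl : IsClosed (Set.range (pullback.lift p q h : G ⟶ pullback u u)))

include hL hcl in
theorem exists_pow (r : (pullback g g : Scheme.{u}) ⟶ X) (p' : G ⟶ U) (hr : gam g j hu p q h ≫ r = p' ≫ j)
    (hp : ∀ x, p' x ∉ Set.range z) (hG : QuasiCompact (gam g j hu p q h)) (hzq : QuasiCompact (z ≫ j)) :
    ∃ m : ℕ, (L.comap (pullback.fst g g) * L.comap (pullback.snd g g)) ^ m ≤
      (z ≫ j).ker.comap r ⊔ (gam g j hu p q h).ker := by
  have hX : CompactSpace X := QuasiCompact.compactSpace_of_compactSpace g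
  have hXn : IsLocallyNoetherian X := LocallyOfFiniteType.isLocallyNoetherian g
  have hP : CompactSpace (pullback g g : Scheme.{u}) :=
    QuasiCompact.compactSpace_of_compactSpace (pullback.fst g g)
  have hPn : IsLocallyNoetherian (pullback g g : Scheme.{u}) :=
    LocallyOfFiniteType.isLocallyNoetherian (pullback.fst g g)
  have : IsNoetherian (pullback g g : Scheme.{u}) := {}
  refine Groth.Agent.Ega1.AnnIdealNoeth.exists_pow_le ?_
  intro x hx
  rw [Scheme.IdealSheafData.support_sup] at hx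
  obtain ⟨hx1, hx2⟩ := hx
  rw [Scheme.IdealSheafData.support_mul]
  by_contra hc
  have hc1 : pullback.fst g g x ∈ Set.range j := by
    by_contra hn
    refine hc (Or.inl ?_)
    rw [Scheme.IdealSheafData.support_comap]
    change pullback.fst g g x ∈ (L.support : Set X)
    rw [hL]; exact hn
  have hc2 : pullback.snd g g x ∈ Set.range j := by
    by_contra hn
    refine hc (Or.inr ?_)
    rw [Scheme.IdealSheafData.support_comap]
    change pullback.snd g g x ∈ (L.support : Set X)
    rw [hL]; exact hn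
  have hx2' : x ∈ ((gam g j hu p q h).ker.support : Set (pullback g g : Scheme.{u})) := hx2
  rw [Scheme.Hom.support_ker] at hx2'
  obtain ⟨y, rfl⟩ := mem_range_gam g j hu p q h hcl hx2' hc1 hc2
  rw [Scheme.IdealSheafData.support_comap] at hx1
  have hx1' : r (gam g j hu p q h y) ∈ ((z ≫ j).ker.support : Set X) := hx1
  rw [Scheme.Hom.support_ker] at hx1'
  have e1 : r (gam g j hu p q h y) = j (p' y) := congrArg (fun f : G ⟶ X => f y) hr
  have e2 : Set.range (z ≫ j) = j '' Set.range z := by
    rw [← Set.range_comp]; rfl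
  rw [e1, e2] at hx1'
  exact hp y (mem_of_mem_closure_image j.isOpenEmbedding z.isClosedEmbedding.isClosed_range hx1')

end Powers

end K64.Dil
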