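import Groth.Agent.AlgSp.K64.Dil
import Groth.Agent.AlgSp.K597.FlatKer

set_option autoImplicit false
set_option linter.unusedSectionVars false
universe u

open CategoryTheory CategoryTheory.Limits AlgebraicGeometry TopologicalSpace

namespace K64.Dil

open Groth.Agent.Divis.EffCartier Groth.Agent.Divis.IdealComap BlowUp Groth.Agent.Divis

variable {X Y Z : Scheme.{u}}

/-! ## the dilatation -/

/-- `δ : D ⟶ X` is the dilatation: the part of the blow-up of `I ⊔ L ^ n` on which it is generated by `L ^ n` -/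
structure IsDil (I L : X.IdealSheafData) (n : ℕ) {D : Scheme.{u}} (δ : D ⟶ X) : Prop where
  eff : IsEffCartierIdeal ((I ⊔ L ^ n).comap δ)
  eq : (I ⊔ L ^ n).comap δ = (L.comap δ) ^ n
  lift : ∀ (T : Scheme.{u}) (t : T ⟶ X), IsEffCartierIdeal ((I ⊔ L ^ n).comap t) →
    (I ⊔ L ^ n).comap t = (L.comap t) ^ n → ∃ s : T ⟶ D, s ≫ δ = t
  uniq : ∀ (T : Scheme.{u}) (s₁ s₂ : T ⟶ D), s₁ ≫ δ = s₂ ≫ δ →
    IsEffCartierIdeal ((I ⊔ L ^ n).comap (s₁ ≫ δ)) → s₁ = s₂
  sep : IsSeparated δ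
  lft : LocallyOfFiniteType δ
  qc : QuasiCompact δ
  iso : ∀ U : X.Opens, Disjoint (U : Set X) (L.support : Set X) → IsIso (δ ∣_ U)

theorem exists_dil [IsNoetherian X] (I L : X.IdealSheafData) (n : ℕ) (hn : n ≠ 0) :
    ∃ (D : Scheme.{u}) (δ : D ⟶ X), IsDil I L n δ := by
  obtain ⟨B, b, hb⟩ := Groth.Agent.Flat2C.BlowExist.exists_isBlowUp (I ⊔ L ^ n)
  have hft : BlowUp.IsFiniteTypeIdeal (I ⊔ L ^ n) := fun U => by
    have : IsNoetherianRing Γ(X, U.1) := IsLocallyNoetherian.component_noetherian U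
    exact IsNoetherian.noetherian _
  have hbp : IsProper b := Groth.Agent.Flat2C.BlowProper.isProper_of_isBlowUp hb hft
  have hBc : CompactSpace B := QuasiCompact.compactSpace_of_compactSpace b
  have hBn : IsLocallyNoetherian B := LocallyOfFiniteType.isLocallyNoetherian b
  have hB : IsNoetherian B := {}
  have hK : ∀ U : B.affineOpens, (((I ⊔ L ^ n).comap b).ideal U).FG := fun U => by
    have : IsNoetherianRing Γ(B, U.1) := IsLocallyNoetherian.component_noetherian U
    exact IsNoetherian.noetherian _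
  have hle : (L.comap b) ^ n ≤ (I ⊔ L ^ n).comap b := by
    rw [Scheme.IdealSheafData.comap_sup, comap_pow]; exact le_sup_right
  let Q := ColonIdeal.colonSheaf ((L.comap b) ^ n) ((I ⊔ L ^ n).comap b) hK
  have hQ : (I ⊔ L ^ n).comap b * Q = (L.comap b) ^ n := ColonIdeal.mul_colonSheaf hK hb.1 hle
  let D : B.Opens := Q.support.compl
  have hQD : Q.comap D.ι = ⊤ := comap_eq_top fun x => by
    have : (D.ι x : B) ∈ D := x.2
    exact this
  have heq : (I ⊔ L ^ n).comap (D.ι ≫ b) = (L.comap (D.ι ≫ b)) ^ n := by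
    rw [Scheme.IdealSheafData.comap_comp, Scheme.IdealSheafData.comap_comp, ← comap_pow, ← hQ,
      comap_mul, hQD, ← Scheme.IdealSheafData.one_eq_top, mul_one]
  refine ⟨D, D.ι ≫ b, ?_, heq, ?_, ?_, inferInstance, inferInstance, inferInstance, ?_⟩
  · rw [Scheme.IdealSheafData.comap_comp]
    exact isEff_comap_flat hb.1 D.ι
  · intro T t ht hte
    obtain ⟨s, hs, -⟩ := hb.2 T t ht
    have h1 : Q.comap s = ⊤ := by
      refine eq_top_of_mul_eq ht ?_
      conv_lhs => rw [← hs, Scheme.IdealSheafData.comap_comp]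
      rw [← comap_mul, hQ, comap_pow, ← Scheme.IdealSheafData.comap_comp, hs, hte]
    have h2 : Set.range s ⊆ Set.range D.ι := by
      rw [Scheme.Opens.range_ι]
      rintro _ ⟨x, rfl⟩
      exact notMem_of_comap_eq_top h1 x
    exact ⟨IsOpenImmersion.lift D.ι s h2, by rw [IsOpenImmersion.lift_fac_assoc, hs]⟩
  · intro T s₁ s₂ h12 he
    rw [← cancel_mono D.ι]
    refine (hb.2 T (s₁ ≫ D.ι ≫ b) he).unique ?_ ?_
    · simp
    · rw [h12]; simp
  · intro U hU
    have h1 : IsIso (b ∣_ U) := BlowUpFormal.isIso_morphismRestrict_compl_support hb U (by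
      refine hU.mono_right ?_
      rw [Scheme.IdealSheafData.support_sup]
      rintro x ⟨-, hx⟩
      rw [Scheme.IdealSheafData.support_pow _ _ hn] at hx
      exact hx)
    have h2 : b ⁻¹ᵁ U ≤ D := by
      intro x hx hxQ
      have h3 : (L.comap b) ^ n ≤ Q := by
        rw [← hQ]
        calc (I ⊔ L ^ n).comap b * Q ≤ 1 * Q := mul_le_mul' le_top le_rfl
          _ = Q := one_mul Q
      have h4 : x ∈ ((L.comap b) ^ n).support := Scheme.IdealSheafData.support_antitone h3 hxQ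
      rw [Scheme.IdealSheafData.support_pow _ _ hn, Scheme.IdealSheafData.support_comap] at h4
      exact Set.disjoint_left.1 hU hx h4
    have h3 : IsIso (D.ι ∣_ (b ⁻¹ᵁ U)) := by
      rw [isIso_iff_isOpenImmersion_and_surjective]
      refine ⟨inferInstance, ⟨fun x => ?_⟩⟩
      refine ⟨⟨⟨x.1, h2 x.2⟩, x.2⟩, ?_⟩
      apply (b ⁻¹ᵁ U).ι.isOpenEmbedding.injective
      exact congrArg (fun f : (D.ι ⁻¹ᵁ (b ⁻¹ᵁ U)).toScheme ⟶ B => f ⟨⟨x.1, h2 x.2⟩, x.2⟩)
        (morphismRestrict_ι D.ι (b ⁻¹ᵁ U))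
    have h4 : IsIso (D.ι ∣_ (b ⁻¹ᵁ U) ≫ b ∣_ U) := inferInstance
    rw [morphismRestrict_comp]
    exact h4

/-! ## the main statement over a proper `S`-scheme -/

section Main

variable {S U G V D : Scheme.{u}} (g : X ⟶ S) (j : U ⟶ X) [IsOpenImmersion j] [IsNoetherian S] [IsProper g]
  {u : U ⟶ S} (hu : j ≫ g = u)
  {L : X.IdealSheafData} (hLE : IsEffCartierIdeal L) (hL : (L.support : Set X) = (Set.range j)ᶜ)
  (z : V ⟶ U) [IsClosedImmersion z] (p q : G ⟶ U) (h : p ≫ u = q ≫ u)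
  {n : ℕ} {δ : D ⟶ X} (hδ : IsDil (z ≫ j).ker L n δ)

include hL in
lemma comap_j_eq_top : L.comap j = ⊤ := comap_eq_top fun x hx => by
  have : j x ∈ (L.support : Set X) := hx
  rw [hL] at this
  exact this ⟨x, rfl⟩

include hL hδ in
/-- the open immersion `U ⟶ D` -/
theorem exists_jD (hn : n ≠ 0) : ∃ j' : U ⟶ D, j' ≫ δ = j ∧ IsOpenImmersion j' ∧ Set.range j' = δ ⁻¹' Set.range j ∧
    j'.ker = ⊥ := by
  have h1 : L.comap j = ⊤ := comap_j_eq_top j hL
  have h2 : ((z ≫ j).ker ⊔ L ^ n).comap j = ⊤ := by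
    rw [Scheme.IdealSheafData.comap_sup, comap_pow, h1, ← Scheme.IdealSheafData.one_eq_top, one_pow,
      Scheme.IdealSheafData.one_eq_top, sup_top_eq]
  obtain ⟨j', hj'⟩ := hδ.lift U j (by rw [h2]; exact isEff_top) (by
    rw [h2, h1, ← Scheme.IdealSheafData.one_eq_top, one_pow])
  obtain ⟨h3, h4⟩ := lift_open hj' (hδ.iso j.opensRange (by rw [hL]; exact disjoint_compl_right))
  refine ⟨j', hj', h3, h4, ?_⟩
  have hLD : IsEffCartierIdeal (L.comap δ) := by
    obtain ⟨m, rfl⟩ := Nat.exists_eq_succ_of_ne_zero hn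
    have := hδ.eff
    rw [hδ.eq, pow_succ] at this
    exact BlowUpFormal.isEff_of_mul_right this
  have h5 := Groth.Agent.Divis.CartierCompl.isSchemeTheoreticallyDominant_compl hLD
  have h6 : (L.comap δ).support.compl = j'.opensRange := by
    ext x
    change x ∉ (L.comap δ).support ↔ x ∈ Set.range j'
    rw [h4, Scheme.IdealSheafData.support_comap]
    change δ x ∉ (L.support : Set X) ↔ _
    rw [hL, Set.notMem_compl_iff]
    rfl
  rw [h6] at h5
  have h7 : IsSchemeTheoreticallyDominant (j'.isoOpensRange.hom ≫ j'.opensRange.ι) := inferInstance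
  rw [Scheme.Hom.isoOpensRange_hom_ι] at h7
  exact h7.ker_eq_bot

include hLE hL hδ in
theorem proper_closure [QuasiCompact (z ≫ j)] {j' : U ⟶ D} (hj' : j' ≫ δ = j) :
    IsProper ((z ≫ j').imageι ≫ δ ≫ g) := by
  have := hδ.sep
  have hI : (z ≫ j).ker.comap (z ≫ j).imageι = ⊥ := by
    rw [eq_bot_iff, ← Scheme.IdealSheafData.le_map_iff_comap_le, Scheme.IdealSheafData.map_bot,
      Scheme.IdealSheafData.ker_subschemeι]
  have hK : ((z ≫ j).ker ⊔ L ^ n).comap (z ≫ j).imageι = (L.comap (z ≫ j).imageι) ^ n := by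
    rw [Scheme.IdealSheafData.comap_sup, comap_pow, hI, bot_sup_eq]
  have hLz : (L.comap (z ≫ j).imageι).comap (z ≫ j).toImage = ⊤ := by
    rw [← Scheme.IdealSheafData.comap_comp, Scheme.Hom.toImage_imageι, Scheme.IdealSheafData.comap_comp,
      comap_j_eq_top j hL, Scheme.IdealSheafData.comap_top]
  have hker : (z ≫ j).toImage.ker = ⊥ := K597.FlatKer.ker_toImage _
  have hLE' : IsEffCartierIdeal (L.comap (z ≫ j).imageι) :=
    isEff_comap_of_dominant (z ≫ j).toImage hker (z ≫ j).imageι hLE hLz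
  obtain ⟨s, hs⟩ := hδ.lift _ (z ≫ j).imageι (by rw [hK]; exact isEff_pow hLE' n) hK
  have hsc : IsClosedImmersion s := by
    have : IsClosedImmersion (s ≫ δ) := by rw [hs]; infer_instance
    exact IsClosedImmersion.of_comp s δ
  have hzs : z ≫ j' = (z ≫ j).toImage ≫ s := by
    have e1 : (z ≫ j') ≫ δ = ((z ≫ j).toImage ≫ s) ≫ δ := by
      rw [Category.assoc, hj', Category.assoc, hs, Scheme.Hom.toImage_imageι]
    refine hδ.uniq _ _ _ e1 ?_
    rw [Category.assoc, hj', Scheme.IdealSheafData.comap_comp, Scheme.IdealSheafData.comap_sup, comap_pow,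
      comap_j_eq_top j hL, ← Scheme.IdealSheafData.one_eq_top, one_pow,
      Scheme.IdealSheafData.one_eq_top, sup_top_eq, Scheme.IdealSheafData.comap_top]
    exact isEff_top
  have hle : s.ker ≤ (z ≫ j').imageι.ker := by
    rw [Scheme.IdealSheafData.ker_subschemeι, hzs, Scheme.Hom.ker_comp, ← Scheme.IdealSheafData.map_bot]
    exact Scheme.IdealSheafData.map_mono _ bot_le
  let l := IsClosedImmersion.lift s (z ≫ j').imageι hle
  have hl : l ≫ s = (z ≫ j').imageι := IsClosedImmersion.lift_fac _ _ _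
  have hlc : IsClosedImmersion l := by
    have : IsClosedImmersion (l ≫ s) := by rw [hl]; infer_instance
    exact IsClosedImmersion.of_comp l s
  rw [← hl, Category.assoc, reassoc_of% hs]
  infer_instance

include hδ in
lemma comap_ker_le {T : Scheme.{u}} (r : T ⟶ D) : (z ≫ j).ker.comap (r ≫ δ) ≤ (L.comap (r ≫ δ)) ^ n := by
  rw [Scheme.IdealSheafData.comap_comp, Scheme.IdealSheafData.comap_comp, ← comap_pow, ← hδ.eq]
  refine Scheme.IdealSheafData.comap_mono _ ?_
  exact Scheme.IdealSheafData.comap_mono _ le_sup_left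

include hLE hL hδ in
theorem closure_gam {j' : U ⟶ D} [IsOpenImmersion j'] (hj' : j' ≫ δ = j) (hu' : j' ≫ δ ≫ g = u)
    [QuasiCompact (gam (δ ≫ g) j' hu' p q h)]
    {m : ℕ} (hm : 2 * m < n)
    (hm1 : (L.comap (pullback.fst g g) * L.comap (pullback.snd g g)) ^ m ≤
      (z ≫ j).ker.comap (pullback.fst g g) ⊔ (gam g j hu p q h).ker)
    (hm2 : (L.comap (pullback.fst g g) * L.comap (pullback.snd g g)) ^ m ≤
      (z ≫ j).ker.comap (pullback.snd g g) ⊔ (gam g j hu p q h).ker)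
    (x : (pullback (δ ≫ g) (δ ≫ g) : Scheme.{u})) (hx : x ∈ closure (Set.range (gam (δ ≫ g) j' hu' p q h))) :
    δ (pullback.fst (δ ≫ g) (δ ≫ g) x) ∈ Set.range j ∧ δ (pullback.snd (δ ≫ g) (δ ≫ g) x) ∈ Set.range j := by
  have htk : (gam (δ ≫ g) j' hu' p q h).toImage.ker = ⊥ := K597.FlatKer.ker_toImage _
  let φ : pullback (δ ≫ g) (δ ≫ g) ⟶ pullback g g :=
    pullback.map _ _ _ _ δ δ (𝟙 S) (by simp) (by simp)
  have hφ1 : φ ≫ pullback.fst g g = pullback.fst (δ ≫ g) (δ ≫ g) ≫ δ := pullback.lift_fst _ _ _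
  have hφ2 : φ ≫ pullback.snd g g = pullback.snd (δ ≫ g) (δ ≫ g) ≫ δ := pullback.lift_snd _ _ _
  let ψ := (gam (δ ≫ g) j' hu' p q h).imageι ≫ φ
  have hψ1 : ψ ≫ pullback.fst g g =
      ((gam (δ ≫ g) j' hu' p q h).imageι ≫ pullback.fst (δ ≫ g) (δ ≫ g)) ≫ δ := by
    simp only [ψ, Category.assoc, hφ1]
  have hψ2 : ψ ≫ pullback.snd g g =
      ((gam (δ ≫ g) j' hu' p q h).imageι ≫ pullback.snd (δ ≫ g) (δ ≫ g)) ≫ δ := by
    simp only [ψ, Category.assoc, hφ2]
  have htψ : (gam (δ ≫ g) j' hu' p q h).toImage ≫ ψ = gam g j hu p q h := by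
    apply pullback.hom_ext
    · rw [Category.assoc, hψ1, Category.assoc, Scheme.Hom.toImage_imageι_assoc, gam_fst_assoc, gam_fst, hj']
    · rw [Category.assoc, hψ2, Category.assoc, Scheme.Hom.toImage_imageι_assoc, gam_snd_assoc, gam_snd, hj']
  have hγ : (gam g j hu p q h).ker.comap ψ = ⊥ := by
    rw [eq_bot_iff, ← Scheme.IdealSheafData.le_map_iff_comap_le, ← htψ, Scheme.Hom.ker_comp, htk]
  have hjt : L.comap j = ⊤ := comap_j_eq_top j hL
  have hA1 : IsEffCartierIdeal (L.comap (ψ ≫ pullback.fst g g)) := by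
    refine isEff_comap_of_dominant _ htk _ hLE ?_
    rw [← Scheme.IdealSheafData.comap_comp, reassoc_of% htψ, gam_fst, Scheme.IdealSheafData.comap_comp, hjt,
      Scheme.IdealSheafData.comap_top]
  have hA2 : IsEffCartierIdeal (L.comap (ψ ≫ pullback.snd g g)) := by
    refine isEff_comap_of_dominant _ htk _ hLE ?_
    rw [← Scheme.IdealSheafData.comap_comp, reassoc_of% htψ, gam_snd, Scheme.IdealSheafData.comap_comp, hjt,
      Scheme.IdealSheafData.comap_top]
  have hK1 : (z ≫ j).ker.comap (ψ ≫ pullback.fst g g) ≤ (L.comap (ψ ≫ pullback.fst g g)) ^ n := by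
    rw [hψ1]; exact comap_ker_le j z hδ _
  have hK2 : (z ≫ j).ker.comap (ψ ≫ pullback.snd g g) ≤ (L.comap (ψ ≫ pullback.snd g g)) ^ n := by
    rw [hψ2]; exact comap_ker_le j z hδ _
  have hm1' : (L.comap (ψ ≫ pullback.fst g g) * L.comap (ψ ≫ pullback.snd g g)) ^ m ≤
      (L.comap (ψ ≫ pullback.fst g g)) ^ n := by
    have := Scheme.IdealSheafData.comap_mono ψ hm1
    dsimp only at this
    rw [comap_pow, comap_mul, Scheme.IdealSheafData.comap_sup, hγ, sup_bot_eq,
      ← Scheme.IdealSheafData.comap_comp, ← Scheme.IdealSheafData.comap_comp,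
      ← Scheme.IdealSheafData.comap_comp] at this
    exact this.trans hK1
  have hm2' : (L.comap (ψ ≫ pullback.fst g g) * L.comap (ψ ≫ pullback.snd g g)) ^ m ≤
      (L.comap (ψ ≫ pullback.snd g g)) ^ n := by
    have := Scheme.IdealSheafData.comap_mono ψ hm2
    dsimp only at this
    rw [comap_pow, comap_mul, Scheme.IdealSheafData.comap_sup, hγ, sup_bot_eq,
      ← Scheme.IdealSheafData.comap_comp, ← Scheme.IdealSheafData.comap_comp,
      ← Scheme.IdealSheafData.comap_comp] at this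
    exact this.trans hK2
  generalize hE1 : L.comap (ψ ≫ pullback.fst g g) = A1 at *
  generalize hE2 : L.comap (ψ ≫ pullback.snd g g) = A2 at *
  have h12 : A1 * A2 = ⊤ := by
    refine eq_top_of_pow_le (isEff_mul hA1 hA2) (k := 2 * m) ?_
    calc (A1 * A2) ^ (2 * m) = (A1 * A2) ^ m * (A1 * A2) ^ m := by rw [two_mul, pow_add]
      _ ≤ A1 ^ n * A2 ^ n := mul_le_mul' hm1' hm2'
      _ = (A1 * A2) ^ n := (mul_pow _ _ _).symm
      _ ≤ (A1 * A2) ^ (2 * m + 1) := by
        obtain ⟨k, rfl⟩ := Nat.exists_eq_add_of_le (Nat.succ_le_of_lt hm)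
        rw [pow_add]
        calc _ ≤ (A1 * A2) ^ (2 * m).succ * 1 := mul_le_mul' le_rfl le_top
          _ = _ := mul_one _
  have h1 : A1 = ⊤ := by
    rw [eq_top_iff, ← h12]
    calc A1 * A2 ≤ A1 * 1 := mul_le_mul' le_rfl le_top
      _ = A1 := mul_one _
  have h2 : A2 = ⊤ := by
    rw [eq_top_iff, ← h12]
    calc A1 * A2 ≤ 1 * A2 := mul_le_mul' le_top le_rfl
      _ = A2 := one_mul _
  rw [← Scheme.Hom.support_ker] at hx
  have hx' : x ∈ Set.range (gam (δ ≫ g) j' hu' p q h).imageι := by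
    rw [Scheme.IdealSheafData.range_subschemeι]; exact hx
  obtain ⟨y, rfl⟩ := hx'
  have e1 := notMem_of_comap_eq_top (hE1.trans h1) y
  have e2 := notMem_of_comap_eq_top (hE2.trans h2) y
  have hL' : ∀ a : X, a ∉ L.support → a ∈ Set.range j := fun a ha => by
    have : a ∉ (L.support : Set X) := ha
    rw [hL, Set.notMem_compl_iff] at this
    exact this
  rw [hψ1] at e1
  rw [hψ2] at e2
  exact ⟨hL' _ e1, hL' _ e2⟩

include hLE hL hδ in
theorem isClosedImmersion_gam {j' : U ⟶ D} [IsOpenImmersion j'] (hj' : j' ≫ δ = j) (hu' : j' ≫ δ ≫ g = u)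
    (hr : Set.range j' = δ ⁻¹' Set.range j)
    [QuasiCompact (gam (δ ≫ g) j' hu' p q h)]
    {m : ℕ} (hm : 2 * m < n)
    (hm1 : (L.comap (pullback.fst g g) * L.comap (pullback.snd g g)) ^ m ≤
      (z ≫ j).ker.comap (pullback.fst g g) ⊔ (gam g j hu p q h).ker)
    (hm2 : (L.comap (pullback.fst g g) * L.comap (pullback.snd g g)) ^ m ≤
      (z ≫ j).ker.comap (pullback.snd g g) ⊔ (gam g j hu p q h).ker)
    [IsClosedImmersion (pullback.lift p q h : G ⟶ pullback u u)] :
    IsClosedImmersion (gam (δ ≫ g) j' hu' p q h) := by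
  have h1 : IsPreimmersion (gam (δ ≫ g) j' hu' p q h) := by
    rw [← lift_jj]; infer_instance
  refine IsClosedImmersion.of_isPreimmersion _ ?_
  refine isClosed_of_closure_subset fun x hx => ?_
  obtain ⟨e1, e2⟩ := closure_gam g j hu hLE hL z p q h hδ hj' hu' hm hm1 hm2 x hx
  refine mem_range_gam (δ ≫ g) j' hu' p q h (Scheme.Hom.isClosedEmbedding _).isClosed_range hx ?_ ?_
  · rw [hr]; exact e1
  · rw [hr]; exact e2

end Main

/-- **Dilatation lemma** (node (A) of S10697). -/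
theorem dil_noetherian {S U Z G : Scheme.{u}} [IsNoetherian S] (u : U ⟶ S) [IsSeparated u]
    [LocallyOfFiniteType u] [QuasiCompact u] (z : Z ⟶ U) [IsClosedImmersion z] (p q : G ⟶ U)
    (h : p ≫ u = q ≫ u) [IsClosedImmersion (pullback.lift p q h : G ⟶ pullback u u)]
    (hp : ∀ x, p x ∉ Set.range z) (hq : ∀ x, q x ∉ Set.range z) :
    ∃ (D : Scheme.{u}) (d : D ⟶ S) (j : U ⟶ D) (e : j ≫ d = u), IsSeparated d ∧ LocallyOfFiniteType d ∧
      QuasiCompact d ∧ IsOpenImmersion j ∧ j.ker = ⊥ ∧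
      IsClosedImmersion (pullback.lift (f := d) (g := d) (p ≫ j) (q ≫ j) (by simp [e, h])) ∧
      IsProper ((z ≫ j).imageι ≫ d) := by
  obtain ⟨X, j, g, L, hj, hg, hu, hLE, hL⟩ := exists_compactification u
  have hXc : CompactSpace X := QuasiCompact.compactSpace_of_compactSpace g
  have hXn : IsLocallyNoetherian X := LocallyOfFiniteType.isLocallyNoetherian g
  have hX : IsNoetherian X := {}
  have hUc : CompactSpace U := QuasiCompact.compactSpace_of_compactSpace u
  have hUn : IsLocallyNoetherian U := LocallyOfFiniteType.isLocallyNoetherian u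
  have hU : IsNoetherian U := {}
  have hjq : QuasiCompact j := inferInstance
  have hPc : CompactSpace (pullback u u : Scheme.{u}) :=
    QuasiCompact.compactSpace_of_compactSpace (pullback.fst u u)
  have hPn : IsLocallyNoetherian (pullback u u : Scheme.{u}) :=
    LocallyOfFiniteType.isLocallyNoetherian (pullback.fst u u)
  have hP : IsNoetherian (pullback u u : Scheme.{u}) := {}
  have hGc : CompactSpace G :=
    QuasiCompact.compactSpace_of_compactSpace (pullback.lift p q h : G ⟶ pullback u u)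
  have hGn : IsLocallyNoetherian G :=
    LocallyOfFiniteType.isLocallyNoetherian (pullback.lift p q h : G ⟶ pullback u u)
  have hG : IsNoetherian G := {}
  have hcl : IsClosed (Set.range (pullback.lift p q h : G ⟶ pullback u u)) :=
    (Scheme.Hom.isClosedEmbedding _).isClosed_range
  obtain ⟨m1, hm1⟩ := exists_pow g j hu p q h hL z hcl (pullback.fst g g) p (gam_fst _ _ _ _ _ _) hp
    inferInstance inferInstance
  obtain ⟨m2, hm2⟩ := exists_pow g j hu p q h hL z hcl (pullback.snd g g) q (gam_snd _ _ _ _ _ _) hq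
    inferInstance inferInstance
  have hpw : ∀ a b : ℕ, a ≤ b → (L.comap (pullback.fst g g) * L.comap (pullback.snd g g)) ^ b ≤
      (L.comap (pullback.fst g g) * L.comap (pullback.snd g g)) ^ a := fun a b hab => by
    obtain ⟨k, rfl⟩ := Nat.exists_eq_add_of_le hab
    rw [pow_add]
    calc _ ≤ (L.comap (pullback.fst g g) * L.comap (pullback.snd g g)) ^ a * 1 := mul_le_mul' le_rfl le_top
      _ = _ := mul_one _
  obtain ⟨D, δ, hδ⟩ := exists_dil (z ≫ j).ker L (2 * (m1 + m2) + 1) (Nat.succ_ne_zero _)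
  obtain ⟨j', hj', hj'o, hr, hk⟩ := exists_jD j hL z hδ (Nat.succ_ne_zero _)
  have := hδ.sep
  have := hδ.lft
  have := hδ.qc
  have hu' : j' ≫ δ ≫ g = u := by rw [reassoc_of% hj', hu]
  refine ⟨D, δ ≫ g, j', hu', inferInstance, inferInstance, inferInstance, hj'o, hk, ?_, ?_⟩
  · exact isClosedImmersion_gam g j hu hLE hL z p q h hδ hj' hu' hr (m := m1 + m2) (by omega)
      ((hpw _ _ (by omega)).trans hm1) ((hpw _ _ (by omega)).trans hm2)
  · exact proper_closure g j hLE hL z hδ hj'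

/-- **Dilatation lemma** (node (A) of S10697). -/
theorem dil {S U Z G : Scheme.{u}} [IsAffine S] [IsLocallyNoetherian S] (u : U ⟶ S) [IsSeparated u]
    [LocallyOfFiniteType u] [QuasiCompact u] (z : Z ⟶ U) [IsClosedImmersion z] (p q : G ⟶ U)
    (h : p ≫ u = q ≫ u) [IsClosedImmersion (pullback.lift p q h : G ⟶ pullback u u)]
    (hp : ∀ x, p x ∉ Set.range z) (hq : ∀ x, q x ∉ Set.range z) :
    ∃ (D : Scheme.{u}) (d : D ⟶ S) (j : U ⟶ D) (e : j ≫ d = u), IsSeparated d ∧ LocallyOfFiniteType d ∧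
      QuasiCompact d ∧ IsOpenImmersion j ∧ j.ker = ⊥ ∧
      IsClosedImmersion (pullback.lift (f := d) (g := d) (p ≫ j) (q ≫ j) (by simp [e, h])) ∧
      IsProper ((z ≫ j).imageι ≫ d) := by
  have : IsNoetherian S := {}
  exact dil_noetherian u z p q h hp hq

end K64.Dil
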